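import Groth.Agent.ResProp.EF.K722.FDBC
import Groth.Agent.ResProp.EF.K280.FDbc
import Groth.Agent.ResProp.EF.K980.Alg
/-!
# `emb_inj` and `DDx = DD of the base change` for `FD.DD`
Interface between the flat base change of `FD.DD` (`K722/FDBC`) and the notations `BC x`, `opBC x` of `K980`.
-/
set_option autoImplicit false
universe u

open TensorProduct
open Groth.Agent.ResProp.EF.K734 (FD)
open Groth.Agent.ResProp.EF.K980

namespace Groth.Agent.ResProp.EF.K722

variable {R R' : Type u} [CommRing R] [CommRing R'] {I : Type}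

/-- `R' ⊗_R M = BC x M`. -/
noncomputable def eBC (x : R →+* R') (M : Type u) [AddCommGroup M] [Module R M] :
    letI := x.toAlgebra; R' ⊗[R] M ≃ₗ[R'] BC x M :=
  letI := x.toAlgebra
  { (AddEquiv.refl (R' ⊗[R] M) : R' ⊗[R] M ≃+ BC x M) with
    map_smul' := fun r z => by
      show (AddEquiv.refl (R' ⊗[R] M) : R' ⊗[R] M ≃+ BC x M) (r • z) =
        r • (AddEquiv.refl (R' ⊗[R] M) : R' ⊗[R] M ≃+ BC x M) z
      induction z with
      | zero => simp
      | add a b ha hb => rw [smul_add, map_add, map_add, smul_add, ha, hb]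
      | tmul s m => rfl }

theorem eBC_tmul (x : R →+* R') {M : Type u} [AddCommGroup M] [Module R M] (m : M) :
    letI := x.toAlgebra; eBC x M (1 ⊗ₜ m) = bc x m := rfl

/-- Constructor of `BCE` with the filtration spanned over `Y.P`. -/
theorem span_P_eq_span_R [Algebra R R'] {X : FD R I} {Y : FD R' I} (π : X.P →+* Y.P)
    (P_span : Submodule.span R' (Set.range π) = ⊤) (κ : X.K → Y.K) (h_smul : ∀ (x : X.P) (v : X.K), κ (x • v) = π x • κ v)
    (F : Submodule X.P X.K) :
    (Submodule.span Y.P (κ '' (F : Set X.K)) : Set Y.K) = Submodule.span R' (κ '' (F : Set X.K)) := by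
  apply Set.Subset.antisymm
  · intro z hz
    have hz' : z ∈ Submodule.span Y.P (κ '' (F : Set X.K)) := hz
    show z ∈ Submodule.span R' (κ '' (F : Set X.K))
    clear hz
    induction hz' using Submodule.span_induction with
    | mem z hz => exact Submodule.subset_span hz
    | zero => exact zero_mem _
    | add a b _ _ ha hb => exact add_mem ha hb
    | smul p z hz0 hz =>
      clear hz0
      have hp : p ∈ Submodule.span R' (Set.range π) := by rw [P_span]; trivial
      induction hp using Submodule.span_induction with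
      | mem p hp =>
        obtain ⟨q, rfl⟩ := hp
        induction hz using Submodule.span_induction with
        | mem z hz =>
          obtain ⟨v, hv, rfl⟩ := hz
          rw [← h_smul]
          exact Submodule.subset_span ⟨_, F.smul_mem q hv, rfl⟩
        | zero => rw [smul_zero]; exact zero_mem _
        | add a b _ _ ha hb => rw [smul_add]; exact add_mem ha hb
        | smul r z _ hz => rw [smul_comm]; exact Submodule.smul_mem _ _ hz
      | zero => rw [zero_smul]; exact zero_mem _
      | add a b _ _ ha hb => rw [add_smul]; exact add_mem ha hb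
      | smul r a _ ha => rw [smul_assoc]; exact Submodule.smul_mem _ _ ha
  · intro z hz
    have hz' : z ∈ Submodule.span R' (κ '' (F : Set X.K)) := hz
    show z ∈ Submodule.span Y.P (κ '' (F : Set X.K))
    clear hz
    induction hz' using Submodule.span_induction with
    | mem z hz => exact Submodule.subset_span hz
    | zero => exact zero_mem _
    | add a b _ _ ha hb => exact add_mem ha hb
    | smul r z _ hz =>
      rw [← algebraMap_smul Y.P r z]
      exact Submodule.smul_mem _ _ hz

/-- The base change of helper280 is a base change. -/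
noncomputable def bceBc (X : FD R I) (x : R →+* R') : letI := x.toAlgebra; BCE X (K280.bc X x) :=
  letI := x.toAlgebra
  have hP : Submodule.span R' (Set.range (K280.canP X x)) = ⊤ := by
    rw [eq_top_iff]
    intro z _
    induction z using K280.indP with
    | h0 => exact zero_mem _
    | h1 r v => exact Submodule.smul_mem _ _ (Submodule.subset_span ⟨v, rfl⟩)
    | h2 a b ha hb => exact add_mem (ha trivial) (hb trivial)
  { π := K280.canP X x
    π_alg := K280.canP_algebraMap X x
    P_span := hP
    e := (LinearEquiv.refl R' (R' ⊗[R] X.K) : R' ⊗[R] X.K ≃ₗ[R'] (K280.bc X x).K)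
    e_smul := fun p v => K280.canK_smul X x p v
    e_fil := fun m => by
      rw [K280.FilK_bc]
      exact span_P_eq_span_R (K280.canP X x) hP (fun v => K280.canK X x v) (K280.canK_smul X x) (X.FilK m)
    e_op := fun i v => rfl }

section emb

variable (X : FD R I) (x : R →+* R')

lemma emb_map_subtype (S : Submodule R (X.K →ₗ[R] X.K)) (T : BC x S) (v : X.K) (Y : FD R' I)
    (B : letI := x.toAlgebra; BCE X Y) :
    letI := x.toAlgebra
    B.e ((eBC x X.K).symm (BC.emb x (BC.map x S.subtype T) (bc x v))) =
      B.T (S.subtype.baseChange R' ((eBC x S).symm T)) (B.e (1 ⊗ₜ v)) := by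
  let := x.toAlgebra
  induction T using BC.ind with
  | h0 => simp
  | h1 r L =>
    have h1 : (eBC x S).symm (r • bc x L) = r ⊗ₜ L := by
      rw [LinearEquiv.symm_apply_eq]
      exact BC.smul_bc_eq r L
    rw [h1, LinearMap.baseChange_tmul, B.T_tmul, map_smul, map_smul, BC.map_bc, BC.emb_bc, LinearMap.smul_apply,
      BC.map_bc, map_smul, map_smul]
    rfl
  | h2 a b ha hb => simp only [map_add, LinearMap.add_apply, ha, hb]

/-- `emb_inj` of `OpCpx`, for all `j`. -/
theorem emb_inj_DD [IsNoetherianRing X.P] [Algebra.FiniteType R X.P] [Module.Finite X.P X.K]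
    (hI : {i | X.op i ≠ 0}.Finite) (j : ℕ) (hx : x.Flat) :
    Function.Injective (fun T : BC x ((X.DD j).restrictScalars R) =>
      BC.emb x (BC.map x ((X.DD j).restrictScalars R).subtype T)) := by
  let := x.toAlgebra
  have : Module.Flat R R' := hx
  have B := bceBc X x
  intro T T' h
  apply (eBC x _).symm.injective
  apply B.dd_injective hI j
  refine B.ext_e fun v => ?_
  rw [BCE.dd, LinearMap.comp_apply, LinearMap.comp_apply, ← emb_map_subtype, ← emb_map_subtype]
  exact congrArg (fun L => B.e ((eBC x X.K).symm (L (bc x v)))) h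

/-- The operators over `R'` coming from `DD j` are the operators `DD j` of the base change. -/
theorem mem_opBC_iff [IsNoetherianRing X.P] [Algebra.FiniteType R X.P] [Module.Finite X.P X.K]
    (hI : {i | X.op i ≠ 0}.Finite) (j : ℕ) (hx : x.Flat) (Y : FD R' I) (B : letI := x.toAlgebra; BCE X Y)
    (L : BC x X.K →ₗ[R'] BC x X.K) :
    letI := x.toAlgebra
    L ∈ opBC x ((X.DD j).restrictScalars R) ↔ ((eBC x X.K).symm.trans B.e).conj L ∈ Y.DD j := by
  let := x.toAlgebra
  have : Module.Flat R R' := hx
  have key : ∀ T : BC x ((X.DD j).restrictScalars R),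
      ((eBC x X.K).symm.trans B.e).conj (BC.emb x (BC.map x ((X.DD j).restrictScalars R).subtype T)) =
        B.dd j ((eBC x _).symm T) := by
    intro T
    refine B.ext_e fun v => ?_
    rw [BCE.dd, LinearMap.comp_apply, ← emb_map_subtype, LinearEquiv.conj_apply_apply, LinearEquiv.trans_apply]
    congr 3
    rw [LinearEquiv.symm_apply_eq, LinearEquiv.trans_apply, ← eBC_tmul, LinearEquiv.symm_apply_apply]
  constructor
  · rintro ⟨_, ⟨T, rfl⟩, rfl⟩
    rw [key]
    have := B.range_dd hI j
    exact (Submodule.restrictScalars_mem R' _ _).1 (this ▸ ⟨_, rfl⟩)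
  · intro h
    have h' : ((eBC x X.K).symm.trans B.e).conj L ∈ LinearMap.range (B.dd j) := by
      rw [B.range_dd hI j]; exact h
    obtain ⟨z, hz⟩ := h'
    refine ⟨_, ⟨eBC x _ z, rfl⟩, ?_⟩
    apply ((eBC x X.K).symm.trans B.e).conj.injective
    rw [← hz]
    refine (key _).trans ?_
    rw [LinearEquiv.symm_apply_apply]

/-- The operators over `R'` coming from `DD j` are the operators `DD j` of helper280's base change (same module). -/
theorem mem_opBC_iff_bc [IsNoetherianRing X.P] [Algebra.FiniteType R X.P] [Module.Finite X.P X.K]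
    (hI : {i | X.op i ≠ 0}.Finite) (j : ℕ) (hx : x.Flat) (L : BC x X.K →ₗ[R'] BC x X.K) :
    L ∈ opBC x ((X.DD j).restrictScalars R) ↔
      (show (K280.bc X x).K →ₗ[R'] (K280.bc X x).K from L) ∈ (K280.bc X x).DD j := by
  rw [mem_opBC_iff X x hI j hx (K280.bc X x) (bceBc X x)]
  exact Iff.rfl

end emb

end Groth.Agent.ResProp.EF.K722
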