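import Groth.Agent.ResProp.EF.K722.Ops
import Mathlib.RingTheory.Noetherian.Basic
import Mathlib.RingTheory.FiniteType
/-!
# Finiteness of the modules of operators (O6)
`P` of finite type over `R`, `M` finite over `P`, `N` Noetherian over `P`: operators of bounded order form a Noetherian
`P`-module. Over a finite filtration `DD^(j)` has bounded order.
-/
set_option autoImplicit false

namespace Groth.Agent.ResProp.EF.K722

section Ord

variable {R : Type*} {P : Type*} [CommRing R] [CommRing P] [Algebra R P]
variable {M N : Type*} [AddCommGroup M] [Module R M] [Module P M] [IsScalarTower R P M]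
  [AddCommGroup N] [Module R N] [Module P N] [IsScalarTower R P N]

/-- Differential operators of order `< c`. -/
def Ord (R P M N : Type*) [CommRing R] [CommRing P] [Algebra R P] [AddCommGroup M] [Module R M] [Module P M]
    [IsScalarTower R P M] [AddCommGroup N] [Module R N] [Module P N] [IsScalarTower R P N] :
    ℕ → Submodule P (M →ₗ[R] N)
  | 0 => ⊥
  | c + 1 =>
    { carrier := {L | ∀ x : P, comm x L ∈ Ord R P M N c}
      add_mem' := fun h h' x => by rw [comm_add]; exact add_mem (h x) (h' x)
      zero_mem' := fun x => by rw [comm_zero]; exact zero_mem _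
      smul_mem' := fun p L h x => by rw [comm_smul]; exact Submodule.smul_mem _ p (h x) }

lemma mem_Ord_zero {L : M →ₗ[R] N} : L ∈ Ord R P M N 0 ↔ L = 0 := Submodule.mem_bot P

lemma mem_Ord_succ {c : ℕ} {L : M →ₗ[R] N} : L ∈ Ord R P M N (c + 1) ↔ ∀ x : P, comm x L ∈ Ord R P M N c := Iff.rfl

lemma Ord_le_succ (c : ℕ) : Ord R P M N c ≤ Ord R P M N (c + 1) := by
  induction c with
  | zero => exact bot_le
  | succ c ih => exact fun L h x => ih (h x)

lemma Ord_mono : Monotone (Ord R P M N) := monotone_nat_of_le_succ Ord_le_succ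

variable (F : ℕ → Submodule P M) (G : ℕ → Submodule P N)

lemma DD_le_Ord {k : ℕ} (hF : F 0 = ⊤) (hG : G (k + 1) = ⊥) (hGa : Antitone G) {c j : ℕ} (hc : k + 1 ≤ c + j) :
    DD R F G j ≤ Ord R P M N c := by
  induction c generalizing j with
  | zero => rw [DD_eq_bot F G hF hG hGa (by omega)]; exact bot_le
  | succ c ih => exact fun L hL x => ih (by omega) (comm_mem_DD hL x)

variable {F G}

lemma comm_eq_zero_of_adjoin {s : Set P} (hs : Algebra.adjoin R s = ⊤) {L : M →ₗ[R] N}
    (h : ∀ x ∈ s, comm x L = 0) (x : P) : comm x L = 0 := by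
  have hx : x ∈ Algebra.adjoin R s := by rw [hs]; trivial
  induction hx using Algebra.adjoin_induction with
  | mem x hx => exact h x hx
  | algebraMap r => exact comm_algebraMap r L
  | add x y _ _ h h' => rw [comm_add_left, h, h', add_zero]
  | mul x y _ _ h h' => rw [comm_mul, h, h', smul_zero, zero_add]; ext m; rfl

open Classical in
/-- The test set. -/
noncomputable def testSet (S : Finset P) (T : Finset M) : ℕ → Finset M
  | 0 => ∅
  | n + 1 => T ∪ testSet S T n ∪ Finset.image₂ (fun s m => s • m) S (testSet S T n)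

lemma eq_zero_of_testSet {S : Finset P} {T : Finset M} (hS : Algebra.adjoin R (S : Set P) = ⊤)
    (hT : Submodule.span P (T : Set M) = ⊤) {n : ℕ} {L : M →ₗ[R] N} (hL : L ∈ Ord R P M N n)
    (h : ∀ m ∈ testSet S T n, L m = 0) : L = 0 := by
  classical
  induction n generalizing L with
  | zero => exact mem_Ord_zero.1 hL
  | succ n ih =>
    have h1 : ∀ x : P, comm x L = 0 := by
      refine comm_eq_zero_of_adjoin hS fun s hs => ih (hL s) fun m hm => ?_
      have e1 : L m = 0 := h m (by
        rw [testSet]; exact Finset.mem_union_left _ (Finset.mem_union_right _ hm))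
      have e2 : L (s • m) = 0 := h _ (by
        rw [testSet]; exact Finset.mem_union_right _ (Finset.mem_image₂_of_mem hs hm))
      rw [comm_apply, e1, e2, smul_zero, sub_zero]
    ext m
    have hm : m ∈ Submodule.span P (T : Set M) := by rw [hT]; trivial
    rw [LinearMap.zero_apply]
    induction hm using Submodule.span_induction with
    | mem m hm => exact h m (by
        rw [testSet]; exact Finset.mem_union_left _ (Finset.mem_union_left _ hm))
    | zero => exact map_zero L
    | add m m' _ _ h h' => rw [map_add, h, h', add_zero]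
    | smul p m _ h =>
      have := LinearMap.congr_fun (h1 p) m
      rw [comm_apply, h, smul_zero, zero_sub, LinearMap.zero_apply, neg_eq_zero] at this
      exact this

/-- Evaluation on a finite set. -/
def evalOn (R P : Type*) {M : Type*} (N : Type*) [CommRing R] [CommRing P] [Algebra R P] [AddCommGroup M]
    [Module R M] [AddCommGroup N] [Module R N] [Module P N] [IsScalarTower R P N] (W : Finset M) :
    (M →ₗ[R] N) →ₗ[P] (W → N) where
  toFun L w := L w
  map_add' _ _ := rfl
  map_smul' _ _ := rfl

/-- (O6) -/
theorem isNoetherian_Ord [Algebra.FiniteType R P] [Module.Finite P M] [IsNoetherian P N] (n : ℕ) :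
    IsNoetherian P (Ord R P M N n) := by
  obtain ⟨S, hS⟩ := (Algebra.FiniteType.out : (⊤ : Subalgebra R P).FG)
  obtain ⟨T, hT⟩ := (Module.Finite.fg_top : (⊤ : Submodule P M).FG)
  refine isNoetherian_of_injective ((evalOn R P N (testSet S T n)).comp (Ord R P M N n).subtype) ?_
  rw [← LinearMap.ker_eq_bot, eq_bot_iff]
  rintro ⟨L, hL⟩ h
  rw [Submodule.mem_bot]
  apply Subtype.ext
  refine eq_zero_of_testSet hS hT hL fun m hm => ?_
  exact congrFun (LinearMap.mem_ker.1 h) ⟨m, hm⟩

variable (F G)

/-- (O6) `DD^(j)` is a Noetherian `P`-module. -/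
theorem isNoetherian_DD [Algebra.FiniteType R P] [Module.Finite P M] [IsNoetherian P N] {k : ℕ} (hF : F 0 = ⊤)
    (hG : G (k + 1) = ⊥) (hGa : Antitone G) (j : ℕ) : IsNoetherian P (DD R F G j) := by
  have := isNoetherian_Ord (R := R) (P := P) (M := M) (N := N) (k + 1)
  exact isNoetherian_of_le (DD_le_Ord F G hF hG hGa (c := k + 1) (by omega))

/-- (O6) `DD^(j)` is a finite `P`-module. -/
theorem finite_DD [Algebra.FiniteType R P] [Module.Finite P M] [IsNoetherian P N] {k : ℕ} (hF : F 0 = ⊤)
    (hG : G (k + 1) = ⊥) (hGa : Antitone G) (j : ℕ) : Module.Finite P (DD R F G j) := by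
  have := isNoetherian_DD (R := R) F G hF hG hGa j
  infer_instance

end Ord

end Groth.Agent.ResProp.EF.K722
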