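import Groth.Agent.ResProp.EF.K722.OpsRes
import Groth.Agent.ResProp.EF.K734.Ops
import Groth.Agent.ResProp.EF.K590.OpBC
/-!
# Flat base change of `FD.DD` (OPS-BC), plug-in
`BCE X Y` : the datum `Y` over `R'` is the base change of the datum `X` over `R`.
-/
set_option autoImplicit false
universe u

open TensorProduct
open Groth.Agent.ResProp.EF.K734 (FD)

namespace Groth.Agent.ResProp.EF.K722

section adL

open Groth.Agent.ResProp.EF.K590

variable {R : Type*} {P : Type*} [CommRing R] [CommRing P] [Algebra R P]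
variable {M N : Type*} [AddCommGroup M] [Module R M] [Module P M] [IsScalarTower R P M]
  [AddCommGroup N] [Module R N] [Module P N] [IsScalarTower R P N]

lemma ad_eq_comm (x : P) (L : M →ₗ[R] N) : ad x L = comm x L := rfl

/-- `DD` by iterated commutators. -/
lemma mem_DD_iff_adL (F : ℕ → Submodule P M) (G : ℕ → Submodule P N) (j : ℕ) (L : M →ₗ[R] N) :
    L ∈ DD R F G j ↔ ∀ (xs : List P) (m : ℕ), ∀ z ∈ F m, adL xs L z ∈ G (m + j + xs.length) := by
  constructor
  · intro h xs
    induction xs generalizing j L with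
    | nil => exact fun m z hz => DD_le_Raise F G j h m z hz
    | cons x xs ih =>
      intro m z hz
      have := ih (j + 1) (comm x L) (comm_mem_DD h x) m z hz
      rw [adL_cons, ad_eq_comm, List.length_cons]
      rwa [show m + (j + 1) + xs.length = m + j + (xs.length + 1) by omega] at this
  · intro h
    refine le_DD_of_stable F G (fun a => {L | ∀ (xs : List P) (m : ℕ), ∀ z ∈ F m,
      adL xs L z ∈ G (m + a + xs.length)}) ?_ ?_ j h
    · intro a L hL m z hz
      exact hL [] m z hz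
    · intro a L hL x xs m z hz
      have := hL (x :: xs) m z hz
      rw [adL_cons, ad_eq_comm, List.length_cons] at this
      rwa [show m + (a + 1) + xs.length = m + a + (xs.length + 1) by omega]

end adL

section FDlemmas

variable {R : Type u} [CommRing R] {I : Type} (X : FD R I)

lemma FD_comm_eq (x : X.P) (L : X.K →ₗ[R] X.K) : X.comm x L = comm x L := rfl

/-- `FD.DD` in terms of the general `DD` and of the commutation with the operators. -/
lemma FD_mem_DD_iff (j : ℕ) (L : X.K →ₗ[R] X.K) :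
    L ∈ X.DD j ↔ L ∈ DD R X.FilK X.FilK j ∧ ∀ i v, L (X.op i v) = X.op i (L v) := by
  constructor
  · intro h
    refine ⟨le_DD_of_stable X.FilK X.FilK (fun a => {L | L ∈ X.DD a}) ?_ ?_ j h, (X.DD_le_DD0 _ h).2⟩
    · intro a L hL m v hv
      exact (X.DD_le_DD0 _ hL).1 m v hv
    · intro a L hL x
      exact (X.mem_DD_iff.1 hL).2 x
  · rintro ⟨h, h'⟩
    rw [X.mem_DD]
    intro c
    induction c generalizing j L with
    | zero => exact ⟨fun m v hv => DD_le_Raise _ _ j h m v hv, h'⟩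
    | succ c ih =>
      rw [X.mem_DDc_succ]
      refine ⟨⟨fun m v hv => DD_le_Raise _ _ j h m v hv, h'⟩, fun x => ih _ _ (comm_mem_DD h x) fun i v => ?_⟩
      rw [FD_comm_eq, comm_apply, comm_apply, h' i v, map_sub, ← h' i (x • v), (X.op i).map_smul x v,
        (X.op i).map_smul x (L v)]

end FDlemmas

/-- `Y` is the base change of `X`. -/
structure BCE {R R' : Type u} [CommRing R] [CommRing R'] [Algebra R R'] {I : Type} (X : FD R I) (Y : FD R' I) where
  π : X.P →+* Y.P
  π_alg : ∀ r, π (algebraMap R X.P r) = algebraMap R' Y.P (algebraMap R R' r)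
  P_span : Submodule.span R' (Set.range π) = ⊤
  e : R' ⊗[R] X.K ≃ₗ[R'] Y.K
  e_smul : ∀ (x : X.P) (v : X.K), e (1 ⊗ₜ (x • v)) = π x • e (1 ⊗ₜ v)
  e_fil : ∀ m, (Y.FilK m : Set Y.K) = Submodule.span R' ((fun v => e (1 ⊗ₜ v)) '' (X.FilK m : Set X.K))
  e_op : ∀ i (v : X.K), e (1 ⊗ₜ X.op i v) = Y.op i (e (1 ⊗ₜ v))

namespace BCE

variable {R R' : Type u} [CommRing R] [CommRing R'] [Algebra R R'] {I : Type} {X : FD R I} {Y : FD R' I}
  (B : BCE X Y)

/-- The map `R' ⊗ End_R(K) → End_R'(K')`. -/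
noncomputable def T : R' ⊗[R] (X.K →ₗ[R] X.K) →ₗ[R'] (Y.K →ₗ[R'] Y.K) :=
  B.e.conj.toLinearMap ∘ₗ (LinearMap.baseChangeHom R R' X.K X.K).liftBaseChange R'

lemma T_tmul (r : R') (L : X.K →ₗ[R] X.K) (v : X.K) : B.T (r ⊗ₜ L) (B.e (1 ⊗ₜ v)) = r • B.e (1 ⊗ₜ L v) := by
  simp [T, LinearEquiv.conj_apply_apply]

/-- The map on the operators `DD j`. -/
noncomputable def dd (j : ℕ) : R' ⊗[R] ((X.DD j).restrictScalars R) →ₗ[R'] (Y.K →ₗ[R'] Y.K) :=
  B.T ∘ₗ ((X.DD j).restrictScalars R).subtype.baseChange R'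

lemma dd_tmul (j : ℕ) (r : R') (L : (X.DD j).restrictScalars R) (v : X.K) :
    B.dd j (r ⊗ₜ L) (B.e (1 ⊗ₜ v)) = r • B.e (1 ⊗ₜ L.1 v) := by
  rw [dd, LinearMap.comp_apply, LinearMap.baseChange_tmul]
  exact B.T_tmul r L.1 v

section main

/-- `R` acts on `K'` through `R'`. -/
@[reducible] noncomputable def modR (_B : BCE X Y) : Module R Y.K := Module.compHom Y.K (algebraMap R R')

/-- `P` acts on `K'` through `P'`. -/
@[reducible] noncomputable def modP : Module X.P Y.K := Module.compHom Y.K B.π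

/-- `P → P'`. -/
@[reducible] noncomputable def algP : Algebra X.P Y.P := B.π.toAlgebra

lemma smul_R (r : R) (v : Y.K) : letI := B.modR; r • v = algebraMap R R' r • v := rfl

lemma tower1 : letI := B.modR; IsScalarTower R R' Y.K := by
  let := B.modR
  refine ⟨fun r r' v => ?_⟩
  rw [Algebra.smul_def, mul_smul]
  rfl

lemma tower2 : letI := B.modR; letI := B.modP; IsScalarTower R X.P Y.K := by
  let := B.modR
  let := B.modP
  refine ⟨fun r p v => ?_⟩
  show B.π (r • p) • v = algebraMap R R' r • (B.π p • v)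
  rw [Algebra.smul_def, map_mul, B.π_alg, mul_smul, algebraMap_smul]

lemma tower3 : letI := B.modP; letI := B.algP; IsScalarTower X.P Y.P Y.K := by
  let := B.modP
  let := B.algP
  refine ⟨fun p q v => ?_⟩
  show (B.π p * q) • v = B.π p • (q • v)
  rw [mul_smul]

/-- the map `K → K'` -/
noncomputable def μ : letI := B.modR; X.K →ₗ[R] Y.K :=
  letI := B.modR
  { toFun := fun v => B.e (1 ⊗ₜ v)
    map_add' := fun v w => by rw [tmul_add, map_add]
    map_smul' := fun r v => by
      show B.e (1 ⊗ₜ (r • v)) = algebraMap R R' r • B.e (1 ⊗ₜ v)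
      rw [← map_smul, ← TensorProduct.smul_tmul, TensorProduct.smul_tmul', smul_eq_mul, mul_one, Algebra.smul_def,
        mul_one] }

lemma μ_apply (v : X.K) : letI := B.modR; B.μ v = B.e (1 ⊗ₜ v) := rfl

/-- `R'`-linear maps on `K'` are determined on `K`. -/
lemma ext_e {Z : Type*} [AddCommGroup Z] [Module R' Z] {L L' : Y.K →ₗ[R'] Z}
    (h : ∀ v : X.K, L (B.e (1 ⊗ₜ v)) = L' (B.e (1 ⊗ₜ v))) : L = L' := by
  have h1 : ∀ z : R' ⊗[R] X.K, L (B.e z) = L' (B.e z) := by
    intro z
    induction z with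
    | zero => simp
    | add a b ha hb => rw [map_add, map_add, map_add, ha, hb]
    | tmul r v =>
      have : r ⊗ₜ[R] v = r • ((1 : R') ⊗ₜ[R] v) := by rw [TensorProduct.smul_tmul', smul_eq_mul, mul_one]
      rw [this, map_smul, map_smul, map_smul, h]
  ext v
  have := h1 (B.e.symm v)
  simpa using this

open Groth.Agent.ResProp.EF.K590

lemma anti_FilK (X : FD R I) : Antitone X.FilK := fun _ _ h => X.FilK_le h

/-- The operators of the base change as `R`-linear operators `K → K'`. -/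
theorem mem_DD_iff_DDo (S : Set I) (hS : ∀ i ∉ S, X.op i = 0) (j : ℕ) (L : Y.K →ₗ[R'] Y.K) :
    letI := B.modR; letI := B.modP; letI := B.algP
    haveI := B.tower1; haveI := B.tower2; haveI := B.tower3
    L ∈ Y.DD j ↔ res B.μ L ∈ DDo (R := R) X.FilK (fun m => (Y.FilK m).restrictScalars X.P)
      (fun i : S => X.op i) (fun i : S => (Y.op i).restrictScalars X.P) j := by
  let := B.modR
  let := B.modP
  let := B.algP
  have := B.tower1
  have := B.tower2
  have := B.tower3
  rw [FD_mem_DD_iff, mem_DDo]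
  refine and_congr ((DD_res (P := X.P) (P' := Y.P) B.μ B.e_smul B.P_span X.FilK Y.FilK Y.FilK
    (fun m => B.e_fil m) j L).trans
    (mem_DD_iff_adL (P := X.P) X.FilK (fun m => (Y.FilK m).restrictScalars X.P) j (res B.μ L))) ?_
  constructor
  · intro h i v
    show L (B.e (1 ⊗ₜ X.op i v)) = Y.op i (L (B.e (1 ⊗ₜ v)))
    rw [B.e_op, h]
  · intro h i
    have h1 : L ∘ₗ (Y.op i).restrictScalars R' = (Y.op i).restrictScalars R' ∘ₗ L := by
      refine B.ext_e fun v => ?_
      show L (Y.op i (B.e (1 ⊗ₜ v))) = Y.op i (L (B.e (1 ⊗ₜ v)))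
      by_cases hi : i ∈ S
      · rw [← B.e_op]
        exact h ⟨i, hi⟩ v
      · have h2 : (Y.op i).restrictScalars R' = 0 := by
          refine B.ext_e fun v => ?_
          show Y.op i (B.e (1 ⊗ₜ v)) = 0
          rw [← B.e_op, hS i hi, LinearMap.zero_apply, tmul_zero, map_zero]
        have h3 : ∀ w, Y.op i w = 0 := fun w => LinearMap.congr_fun h2 w
        rw [h3, h3, map_zero]
    exact fun v => LinearMap.congr_fun h1 v

theorem res_T (t : R' ⊗[R] (X.K →ₗ[R] X.K)) :
    letI := B.modR; haveI := B.tower1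
    res B.μ (B.T t) = kapOp X.K (B.e.restrictScalars R) t := by
  let := B.modR
  have := B.tower1
  induction t with
  | zero => ext v; simp [res]
  | add a b ha hb =>
    rw [map_add, map_add, ← ha, ← hb]
    rfl
  | tmul r L =>
    ext v
    show B.T (r ⊗ₜ L) (B.e (1 ⊗ₜ v)) = B.e (r ⊗ₜ L v)
    rw [B.T_tmul, ← map_smul, TensorProduct.smul_tmul', smul_eq_mul, mul_one]

lemma he_smul (p : X.P) (r : R') (v : X.K) : B.π p • B.e (r ⊗ₜ v) = B.e (r ⊗ₜ (p • v)) := by
  have h : ∀ w : X.K, B.e (r ⊗ₜ w) = r • B.e (1 ⊗ₜ w) := fun w => by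
    rw [← map_smul, TensorProduct.smul_tmul', smul_eq_mul, mul_one]
  rw [h, h, B.e_smul, smul_comm]

lemma mem_FilK_iff (n : ℕ) (x : Y.K) : x ∈ Y.FilK n ↔
    B.e.symm x ∈ LinearMap.range (((X.FilK n).restrictScalars R).subtype.lTensor R') := by
  have h1 : x ∈ Y.FilK n ↔ x ∈ Submodule.span R' ((fun v => B.e (1 ⊗ₜ v)) '' (X.FilK n : Set X.K)) := by
    rw [← SetLike.mem_coe, B.e_fil]; rfl
  have h2 : (fun v => B.e (1 ⊗ₜ v)) '' (X.FilK n : Set X.K) =
      B.e.toLinearMap '' ((((X.FilK n).restrictScalars R).map (TensorProduct.mk R R' X.K 1) :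
        Submodule R (R' ⊗[R] X.K)) : Set (R' ⊗[R] X.K)) := by
    ext y
    constructor
    · rintro ⟨v, hv, rfl⟩
      exact ⟨_, ⟨v, hv, rfl⟩, rfl⟩
    · rintro ⟨_, ⟨v, hv, rfl⟩, rfl⟩
      exact ⟨v, hv, rfl⟩
  rw [h1, h2, Submodule.span_image, ← Submodule.baseChange_eq_span]
  constructor
  · rintro ⟨y, ⟨z, hz⟩, rfl⟩
    refine ⟨z, ?_⟩
    show _ = B.e.symm (B.e y)
    rw [LinearEquiv.symm_apply_apply]
    exact hz
  · rintro ⟨z, hz⟩
    exact ⟨_, ⟨z, hz⟩, B.e.apply_symm_apply x⟩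

lemma res_injective : letI := B.modR; haveI := B.tower1
    Function.Injective (res B.μ : (Y.K →ₗ[R'] Y.K) → (X.K →ₗ[R] Y.K)) := by
  let := B.modR
  have := B.tower1
  intro L L' h
  exact B.ext_e fun v => LinearMap.congr_fun h v

lemma restrict_DD_eq (S : Set I) (hS : ∀ i ∉ S, X.op i = 0) (j : ℕ) :
    (X.DD j).restrictScalars R = DDo (R := R) X.FilK X.FilK (fun i : S => X.op i) (fun i : S => X.op i) j := by
  ext L
  rw [Submodule.restrictScalars_mem, FD_mem_DD_iff, mem_DDo]
  refine and_congr (mem_DD_iff_adL (P := X.P) X.FilK X.FilK j L) ⟨fun h i v => h i v, fun h i v => ?_⟩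
  by_cases hi : i ∈ S
  · exact h ⟨i, hi⟩ v
  · rw [hS i hi, LinearMap.zero_apply, LinearMap.zero_apply, map_zero]

/-- Base change of an operator. -/
noncomputable def ext (L : X.K →ₗ[R] X.K) : Y.K →ₗ[R'] Y.K := B.T (1 ⊗ₜ L)

lemma ext_apply (L : X.K →ₗ[R] X.K) (v : X.K) : B.ext L (B.e (1 ⊗ₜ v)) = B.e (1 ⊗ₜ L v) := by
  rw [ext, T_tmul, one_smul]

/-- The base change of an operator in `DD j` is in `DD j` (no flatness). -/
theorem ext_mem {j : ℕ} {L : X.K →ₗ[R] X.K} (hL : L ∈ X.DD j) : B.ext L ∈ Y.DD j := by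
  let := B.modR
  let := B.modP
  let := B.algP
  have := B.tower1
  have := B.tower2
  have := B.tower3
  have hS : ∀ i ∉ (Set.univ : Set I), X.op i = 0 := fun i hi => (hi trivial).elim
  have hE := restrict_DD_eq (X := X) _ hS j
  have hop : ∀ (i : (Set.univ : Set I)) (f : R') (n : X.K), ((Y.op i).restrictScalars X.P)
      ((B.e.restrictScalars R) (f ⊗ₜ n)) = (B.e.restrictScalars R) (f ⊗ₜ X.op i n) := by
    intro i f n
    have h : ∀ w : X.K, B.e (f ⊗ₜ w) = f • B.e (1 ⊗ₜ w) := fun w => by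
      rw [← map_smul, TensorProduct.smul_tmul', smul_eq_mul, mul_one]
    show Y.op i (B.e (f ⊗ₜ n)) = B.e (f ⊗ₜ X.op i n)
    rw [h, h, B.e_op]
    exact ((Y.op i).restrictScalars R').map_smul f _
  have key' := op_mem (R := R) (P := X.P) (M := X.K) (N := X.K) (F := R') (N' := Y.K) (FM := X.FilK) (FN := X.FilK)
    (FN' := fun m => (Y.FilK m).restrictScalars X.P)
    (φ := fun i : (Set.univ : Set I) => X.op i) (ψ := fun i : (Set.univ : Set I) => X.op i)
    (ψ' := fun i : (Set.univ : Set I) => (Y.op i).restrictScalars X.P)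
    (B.e.restrictScalars R) (fun p f n => B.he_smul p f n) (fun n x => B.mem_FilK_iff n x) hop j
  have hL' : L ∈ DDo (R := R) X.FilK X.FilK (fun i : (Set.univ : Set I) => X.op i)
      (fun i : (Set.univ : Set I) => X.op i) j := by
    rw [← hE]; exact hL
  rw [B.mem_DD_iff_DDo _ hS, ext, res_T]
  exact key' (1 ⊗ₜ ⟨L, hL'⟩)

lemma dd_tmul_eq (j : ℕ) (r : R') (L : (X.DD j).restrictScalars R) : B.dd j (r ⊗ₜ L) = r • B.ext L.1 := by
  refine B.ext_e fun v => ?_
  rw [dd_tmul, LinearMap.smul_apply, ext_apply]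

variable [IsNoetherianRing X.P] [Algebra.FiniteType R X.P] [Module.Finite X.P X.K] [Module.Flat R R']

include B in
omit [IsNoetherianRing X.P] in
/-- **OPS-BC**, injectivity. -/
theorem dd_injective (hI : {i | X.op i ≠ 0}.Finite) (j : ℕ) : Function.Injective (B.dd j) := by
  let := B.modR
  let := B.modP
  let := B.algP
  have := B.tower1
  have := B.tower2
  have := B.tower3
  have := hI.to_subtype
  have hS : ∀ i ∉ {i | X.op i ≠ 0}, X.op i = 0 := fun i hi => by simpa using hi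
  have hE := restrict_DD_eq (X := X) _ hS j
  have key := op_inj (R := R) (P := X.P) (M := X.K) (N := X.K) (F := R') (N' := Y.K) (FM := X.FilK) (FN := X.FilK)
    (φ := fun i : {i | X.op i ≠ 0} => X.op i) (ψ := fun i : {i | X.op i ≠ 0} => X.op i)
    (B.e.restrictScalars R) (fun p f n => B.he_smul p f n) X.FilK_zero (anti_FilK X) (anti_FilK X) X.FilK_top j
  unfold dd
  revert key
  rw [← hE]
  intro key z z' h
  apply key
  have h' := congrArg (res B.μ) h
  rw [LinearMap.comp_apply, LinearMap.comp_apply, res_T, res_T] at h'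
  exact h'

/-- **OPS-BC**, image. -/
theorem range_dd (hI : {i | X.op i ≠ 0}.Finite) (j : ℕ) :
    LinearMap.range (B.dd j) = (Y.DD j).restrictScalars R' := by
  let := B.modR
  let := B.modP
  let := B.algP
  have := B.tower1
  have := B.tower2
  have := B.tower3
  have := hI.to_subtype
  have hS : ∀ i ∉ {i | X.op i ≠ 0}, X.op i = 0 := fun i hi => by simpa using hi
  have hE := restrict_DD_eq (X := X) _ hS j
  have hop : ∀ (i : {i | X.op i ≠ 0}) (f : R') (n : X.K), ((Y.op i).restrictScalars X.P)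
      ((B.e.restrictScalars R) (f ⊗ₜ n)) = (B.e.restrictScalars R) (f ⊗ₜ X.op i n) := by
    intro i f n
    have h : ∀ w : X.K, B.e (f ⊗ₜ w) = f • B.e (1 ⊗ₜ w) := fun w => by
      rw [← map_smul, TensorProduct.smul_tmul', smul_eq_mul, mul_one]
    show Y.op i (B.e (f ⊗ₜ n)) = B.e (f ⊗ₜ X.op i n)
    rw [h, h, B.e_op]
    exact ((Y.op i).restrictScalars R').map_smul f _
  have key := op_surj (R := R) (P := X.P) (M := X.K) (N := X.K) (F := R') (N' := Y.K) (FM := X.FilK) (FN := X.FilK)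
    (FN' := fun m => (Y.FilK m).restrictScalars X.P)
    (φ := fun i : {i | X.op i ≠ 0} => X.op i) (ψ := fun i : {i | X.op i ≠ 0} => X.op i)
    (ψ' := fun i : {i | X.op i ≠ 0} => (Y.op i).restrictScalars X.P)
    (B.e.restrictScalars R) (fun p f n => B.he_smul p f n) (fun n x => B.mem_FilK_iff n x) hop
    X.FilK_zero (anti_FilK X) (anti_FilK X) X.FilK_top j
  have key' := op_mem (R := R) (P := X.P) (M := X.K) (N := X.K) (F := R') (N' := Y.K) (FM := X.FilK) (FN := X.FilK)
    (FN' := fun m => (Y.FilK m).restrictScalars X.P)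
    (φ := fun i : {i | X.op i ≠ 0} => X.op i) (ψ := fun i : {i | X.op i ≠ 0} => X.op i)
    (ψ' := fun i : {i | X.op i ≠ 0} => (Y.op i).restrictScalars X.P)
    (B.e.restrictScalars R) (fun p f n => B.he_smul p f n) (fun n x => B.mem_FilK_iff n x) hop j
  unfold dd
  revert key key'
  rw [← hE]
  intro key key'
  ext L
  rw [Submodule.restrictScalars_mem, B.mem_DD_iff_DDo _ hS]
  constructor
  · rintro ⟨z, rfl⟩
    rw [LinearMap.comp_apply, res_T]
    exact key' z
  · intro h
    obtain ⟨z, hz⟩ := key _ h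
    refine ⟨z, B.res_injective ?_⟩
    rw [LinearMap.comp_apply, res_T]
    exact hz

/-- **OPS-BC**: `R' ⊗_R DD j = DD' j`. -/
noncomputable def ddEquiv (hI : {i | X.op i ≠ 0}.Finite) (j : ℕ) :
    R' ⊗[R] ((X.DD j).restrictScalars R) ≃ₗ[R'] (Y.DD j).restrictScalars R' :=
  LinearEquiv.ofBijective
    ((B.dd j).codRestrict ((Y.DD j).restrictScalars R') fun z => by
      rw [← B.range_dd hI j]; exact ⟨z, rfl⟩)
    ⟨fun z z' h => B.dd_injective hI j (congrArg Subtype.val h), fun L => by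
      obtain ⟨z, hz⟩ : (L : Y.K →ₗ[R'] Y.K) ∈ LinearMap.range (B.dd j) := by
        rw [B.range_dd hI j]; exact L.2
      exact ⟨z, Subtype.ext hz⟩⟩

lemma ddEquiv_coe (hI : {i | X.op i ≠ 0}.Finite) (j : ℕ) (z : R' ⊗[R] ((X.DD j).restrictScalars R)) :
    (B.ddEquiv hI j z : Y.K →ₗ[R'] Y.K) = B.dd j z := rfl

lemma ddEquiv_tmul (hI : {i | X.op i ≠ 0}.Finite) (j : ℕ) (r : R') (L : (X.DD j).restrictScalars R) :
    (B.ddEquiv hI j (r ⊗ₜ L) : Y.K →ₗ[R'] Y.K) = r • B.ext L.1 := B.dd_tmul_eq j r L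

/-- The operators of the base change are spanned by the base changes of operators. -/
theorem DD_eq_span (hI : {i | X.op i ≠ 0}.Finite) (j : ℕ) :
    (Y.DD j).restrictScalars R' = Submodule.span R' (B.ext '' (X.DD j : Set (X.K →ₗ[R] X.K))) := by
  apply le_antisymm
  · rw [← B.range_dd hI j]
    rintro _ ⟨z, rfl⟩
    induction z with
    | zero => rw [map_zero]; exact zero_mem _
    | add a b ha hb => rw [map_add]; exact add_mem ha hb
    | tmul r L =>
      rw [dd_tmul_eq]
      exact Submodule.smul_mem _ _ (Submodule.subset_span ⟨L.1, L.2, rfl⟩)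
  · rw [Submodule.span_le]
    rintro _ ⟨L, hL, rfl⟩
    exact B.ext_mem hL

end main

end BCE

end Groth.Agent.ResProp.EF.K722
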