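import Groth.Agent.ResProp.EF.K722.FDBC
import Groth.Agent.ResProp.EF.K980.Alg
/-!
# `FD.DD` is a finite module (`OpCpx.DD_gen`)
-/
set_option autoImplicit false
universe u

open Groth.Agent.ResProp.EF.K734 (FD)

namespace Groth.Agent.ResProp.EF.K722

variable {R : Type u} [CommRing R] {I : Type} (X : FD R I)

/-- `X.DD j` is Noetherian over `X.P`. -/
theorem FD_isNoetherian_DD [IsNoetherianRing X.P] [Algebra.FiniteType R X.P] [Module.Finite X.P X.K] (j : ℕ) :
    IsNoetherian X.P (X.DD j) := by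
  have h := isNoetherian_DD (R := R) X.FilK X.FilK X.FilK_zero X.FilK_top (fun _ _ h => X.FilK_le h) j
  exact isNoetherian_of_le (t := DD R X.FilK X.FilK j) fun L hL => ((FD_mem_DD_iff X j L).1 hL).1

/-- `X.DD j` is finite over `X.P`. -/
theorem FD_finite_DD [IsNoetherianRing X.P] [Algebra.FiniteType R X.P] [Module.Finite X.P X.K] (j : ℕ) :
    Module.Finite X.P (X.DD j) := by
  have := FD_isNoetherian_DD X j
  infer_instance

/-- `OpCpx.DD_gen`. -/
theorem FD_DD_gen [IsNoetherianRing X.P] [Algebra.FiniteType R X.P] [Module.Finite X.P X.K] (j : ℕ) :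
    ∃ s : Finset (X.K →ₗ[R] X.K), (∀ S ∈ s, S ∈ (X.DD j).restrictScalars R) ∧
      ∀ T ∈ (X.DD j).restrictScalars R, ∃ c : (X.K →ₗ[R] X.K) → X.P,
        T = ∑ S ∈ s, K980.smulR R X.P X.K (c S) ∘ₗ S := by
  have h := FD_isNoetherian_DD X j
  obtain ⟨s, hs⟩ := (isNoetherian_submodule.1 h (X.DD j) le_rfl : (X.DD j).FG)
  refine ⟨s, fun S hS => ?_, fun T hT => ?_⟩
  · have : S ∈ Submodule.span X.P (s : Set (X.K →ₗ[R] X.K)) := Submodule.subset_span hS
    rw [hs] at this
    exact this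
  · have hT' : T ∈ Submodule.span X.P (s : Set (X.K →ₗ[R] X.K)) := by rw [hs]; exact hT
    obtain ⟨c, -, hc⟩ := Submodule.mem_span_finset.1 hT'
    refine ⟨c, ?_⟩
    rw [← hc]
    refine Finset.sum_congr rfl fun S _ => ?_
    ext v
    rfl

end Groth.Agent.ResProp.EF.K722
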