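import Mathlib.RingTheory.Ideal.Operations
import Mathlib.Algebra.Module.Submodule.Lattice
import Mathlib.Algebra.Algebra.Tower
import Mathlib.Algebra.Module.Equiv.Basic
import Mathlib.RingTheory.FiniteType
/-!
# Operators raising a filtration, with all commutators (4.3 of the paper proof of S16912)
`R → P` commutative rings, `Fil : ℕ → Ideal P`; `M`, `N` modules over `P` with filtrations `F`, `G`.
-/
set_option autoImplicit false
universe u v w

namespace Groth.Agent.ResProp.EF.K722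

section comm

variable {R : Type*} {P : Type*} [CommRing R] [CommRing P] [Algebra R P]
variable {M N Q : Type*} [AddCommGroup M] [Module R M] [Module P M] [IsScalarTower R P M]
  [AddCommGroup N] [Module R N] [Module P N] [IsScalarTower R P N]
  [AddCommGroup Q] [Module R Q] [Module P Q] [IsScalarTower R P Q]

/-- Multiplication by `x : P` as an `R`-linear map. -/
def mulx (R : Type*) {P : Type*} [CommRing R] [CommRing P] [Algebra R P] (M : Type*) [AddCommGroup M]
    [Module R M] [Module P M] [IsScalarTower R P M] (x : P) : M →ₗ[R] M where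
  toFun m := x • m
  map_add' := smul_add x
  map_smul' r m := smul_comm x r m

@[simp] lemma mulx_apply (x : P) (m : M) : mulx R M x m = x • m := rfl

/-- The commutator `x L - L x`. -/
def comm (x : P) (L : M →ₗ[R] N) : M →ₗ[R] N := x • L - L ∘ₗ mulx R M x

lemma comm_apply (x : P) (L : M →ₗ[R] N) (m : M) : comm x L m = x • L m - L (x • m) := rfl

lemma comm_add (x : P) (L L' : M →ₗ[R] N) : comm x (L + L') = comm x L + comm x L' := by
  ext m; simp only [comm_apply, LinearMap.add_apply, smul_add]; abel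

lemma comm_sub (x : P) (L L' : M →ₗ[R] N) : comm x (L - L') = comm x L - comm x L' := by
  ext m; simp only [comm_apply, LinearMap.sub_apply, smul_sub]; abel

@[simp] lemma comm_zero (x : P) : comm x (0 : M →ₗ[R] N) = 0 := by
  ext m; simp [comm_apply]

lemma comm_smul (x p : P) (L : M →ₗ[R] N) : comm x (p • L) = p • comm x L := by
  ext m; simp only [comm_apply, LinearMap.smul_apply, smul_sub, smul_smul, mul_comm x p]

lemma comm_comp (x : P) (L : N →ₗ[R] Q) (L' : M →ₗ[R] N) :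
    comm x (L ∘ₗ L') = comm x L ∘ₗ L' + L ∘ₗ comm x L' := by
  ext m; simp only [comm_apply, LinearMap.comp_apply, LinearMap.add_apply, map_sub]; abel

lemma comm_mul (x y : P) (L : M →ₗ[R] N) :
    comm (x * y) L = x • comm y L + comm x L ∘ₗ mulx R M y := by
  ext m
  simp only [comm_apply, LinearMap.comp_apply, LinearMap.add_apply, LinearMap.smul_apply, mulx_apply, smul_sub,
    smul_smul]
  abel

lemma comm_add_left (x y : P) (L : M →ₗ[R] N) : comm (x + y) L = comm x L + comm y L := by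
  ext m; simp only [comm_apply, LinearMap.add_apply, add_smul, map_add]; abel

lemma comm_algebraMap (r : R) (L : M →ₗ[R] N) : comm (algebraMap R P r) L = 0 := by
  ext m; simp only [comm_apply, algebraMap_smul, map_smul, LinearMap.zero_apply, sub_self]

lemma comm_one (L : M →ₗ[R] N) : comm (1 : P) L = 0 := by
  simpa using comm_algebraMap (P := P) (1 : R) L

/-- A `P`-linear map commutes with everything. -/
lemma comm_eq_zero (L : M →ₗ[R] N) (hL : ∀ (x : P) (m : M), L (x • m) = x • L m) (x : P) : comm x L = 0 := by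
  ext m; simp [comm_apply, hL]

lemma comm_comm_symm (x y : P) (L : M →ₗ[R] N) : comm x (comm y L) = comm y (comm x L) := by
  ext m
  simp only [comm_apply, smul_sub, smul_smul, mul_comm x y]
  abel

lemma comm_comp_mulx (x y : P) (L : M →ₗ[R] N) : comm x (L ∘ₗ mulx R M y) = comm x L ∘ₗ mulx R M y := by
  ext m
  simp only [comm_apply, LinearMap.comp_apply, mulx_apply, smul_smul, mul_comm x y]

end comm

section Filt

variable {R : Type*} {P : Type*} [CommRing R] [CommRing P] [Algebra R P]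
variable {M N Q : Type*} [AddCommGroup M] [Module R M] [Module P M] [IsScalarTower R P M]
  [AddCommGroup N] [Module R N] [Module P N] [IsScalarTower R P N]
  [AddCommGroup Q] [Module R Q] [Module P Q] [IsScalarTower R P Q]
  (F : ℕ → Submodule P M) (G : ℕ → Submodule P N) (K : ℕ → Submodule P Q)

/-- Maps raising the filtration by `j`, as a `P`-submodule (`P` acts on the left). -/
def Raise (R : Type*) [CommRing R] [Algebra R P] [Module R M] [IsScalarTower R P M] [Module R N]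
    [IsScalarTower R P N] (F : ℕ → Submodule P M) (G : ℕ → Submodule P N) (j : ℕ) : Submodule P (M →ₗ[R] N) where
  carrier := {L | ∀ m, ∀ x ∈ F m, L x ∈ G (m + j)}
  add_mem' h h' m x hx := add_mem (h m x hx) (h' m x hx)
  zero_mem' _ _ _ := zero_mem _
  smul_mem' p _ h m x hx := Submodule.smul_mem _ p (h m x hx)

lemma mem_Raise {j : ℕ} {L : M →ₗ[R] N} : L ∈ Raise R F G j ↔ ∀ m, ∀ x ∈ F m, L x ∈ G (m + j) := Iff.rfl

/-- Operators of which all `≤ c`-fold commutators raise the filtration by `j + (number of commutators)`. -/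
def DDc (R : Type*) [CommRing R] [Algebra R P] [Module R M] [IsScalarTower R P M] [Module R N]
    [IsScalarTower R P N] (F : ℕ → Submodule P M) (G : ℕ → Submodule P N) : ℕ → ℕ → Submodule P (M →ₗ[R] N)
  | 0, j => Raise R F G j
  | c + 1, j =>
    { carrier := {L | L ∈ Raise R F G j ∧ ∀ x : P, comm x L ∈ DDc R F G c (j + 1)}
      add_mem' := fun h h' => ⟨add_mem h.1 h'.1, fun x => by rw [comm_add]; exact add_mem (h.2 x) (h'.2 x)⟩
      zero_mem' := ⟨zero_mem _, fun x => by rw [comm_zero]; exact zero_mem _⟩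
      smul_mem' := fun p L h => ⟨Submodule.smul_mem _ p h.1, fun x => by
        rw [comm_smul]; exact Submodule.smul_mem _ p (h.2 x)⟩ }

lemma mem_DDc_zero {j : ℕ} {L : M →ₗ[R] N} : L ∈ DDc R F G 0 j ↔ L ∈ Raise R F G j := Iff.rfl

lemma mem_DDc_succ {c j : ℕ} {L : M →ₗ[R] N} :
    L ∈ DDc R F G (c + 1) j ↔ L ∈ Raise R F G j ∧ ∀ x : P, comm x L ∈ DDc R F G c (j + 1) := Iff.rfl

lemma DDc_le_Raise (c j : ℕ) : DDc R F G c j ≤ Raise R F G j := by
  cases c with
  | zero => exact le_rfl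
  | succ c => exact fun L h => h.1

lemma DDc_succ_le (c j : ℕ) : DDc R F G (c + 1) j ≤ DDc R F G c j := by
  induction c generalizing j with
  | zero => exact DDc_le_Raise F G 1 j
  | succ c ih => exact fun L h => ⟨h.1, fun x => ih (j + 1) (h.2 x)⟩

lemma DDc_anti {c c' : ℕ} (h : c ≤ c') (j : ℕ) : DDc R F G c' j ≤ DDc R F G c j := by
  induction h with
  | refl => exact le_rfl
  | step _ ih => exact (DDc_succ_le F G _ j).trans ih

/-- The operators `DD^(j)`: all iterated commutators raise the filtration by `j + (number of commutators)`. -/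
def DD (R : Type*) [CommRing R] [Algebra R P] [Module R M] [IsScalarTower R P M] [Module R N]
    [IsScalarTower R P N] (F : ℕ → Submodule P M) (G : ℕ → Submodule P N) (j : ℕ) : Submodule P (M →ₗ[R] N) :=
  ⨅ c, DDc R F G c j

lemma mem_DD {j : ℕ} {L : M →ₗ[R] N} : L ∈ DD R F G j ↔ ∀ c, L ∈ DDc R F G c j := by
  rw [DD, Submodule.mem_iInf]

lemma DD_le_DDc (c j : ℕ) : DD R F G j ≤ DDc R F G c j := iInf_le _ c

lemma DD_le_Raise (j : ℕ) : DD R F G j ≤ Raise R F G j := DD_le_DDc F G 0 j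

/-- (O1) -/
lemma mem_DD_iff {j : ℕ} {L : M →ₗ[R] N} :
    L ∈ DD R F G j ↔ L ∈ Raise R F G j ∧ ∀ x : P, comm x L ∈ DD R F G (j + 1) := by
  constructor
  · intro h
    rw [mem_DD] at h
    refine ⟨h 0, fun x => ?_⟩
    rw [mem_DD]
    exact fun c => (h (c + 1)).2 x
  · rintro ⟨h0, h⟩
    rw [mem_DD]
    intro c
    cases c with
    | zero => exact h0
    | succ c => exact ⟨h0, fun x => (mem_DD F G).1 (h x) c⟩

/-- Coinduction: a family of sets stable under commutators and raising the filtration lies in `DD`. -/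
lemma le_DD_of_stable (S : ℕ → Set (M →ₗ[R] N)) (h0 : ∀ j, ∀ L ∈ S j, L ∈ Raise R F G j)
    (h1 : ∀ j, ∀ L ∈ S j, ∀ x : P, comm x L ∈ S (j + 1)) (j : ℕ) {L : M →ₗ[R] N} (hL : L ∈ S j) :
    L ∈ DD R F G j := by
  rw [mem_DD]
  intro c
  induction c generalizing j L with
  | zero => exact h0 j L hL
  | succ c ih => exact ⟨h0 j L hL, fun x => ih (j + 1) (h1 j L hL x)⟩

lemma Raise_anti (hG : Antitone G) {i j : ℕ} (h : i ≤ j) : Raise R F G j ≤ Raise R F G i :=
  fun _ hL m x hx => hG (Nat.add_le_add_left h m) (hL m x hx)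

lemma DD_anti (hG : Antitone G) {i j : ℕ} (h : i ≤ j) : DD R F G j ≤ DD R F G i := by
  intro L hL
  refine le_DD_of_stable F G (fun a => {L | ∃ b, a ≤ b ∧ L ∈ DD R F G b}) ?_ ?_ i ⟨j, h, hL⟩
  · rintro a L ⟨b, hab, hb⟩
    exact Raise_anti F G hG hab (DD_le_Raise F G b hb)
  · rintro a L ⟨b, hab, hb⟩ x
    exact ⟨b + 1, Nat.succ_le_succ hab, ((mem_DD_iff F G).1 hb).2 x⟩

lemma Raise_eq_bot {k : ℕ} (hF : F 0 = ⊤) (hG : G (k + 1) = ⊥) (hGa : Antitone G) {j : ℕ} (hj : k + 1 ≤ j) :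
    Raise R F G j = ⊥ := by
  rw [eq_bot_iff]
  intro L hL
  rw [Submodule.mem_bot]
  ext m
  have h1 : L m ∈ G (0 + j) := hL 0 m (by rw [hF]; trivial)
  have h2 : L m ∈ G (k + 1) := hGa (by omega) h1
  rw [hG] at h2
  simpa using h2

/-- (O2) `DD^(k+1) = 0`. -/
lemma DD_eq_bot {k : ℕ} (hF : F 0 = ⊤) (hG : G (k + 1) = ⊥) (hGa : Antitone G) {j : ℕ} (hj : k + 1 ≤ j) :
    DD R F G j = ⊥ :=
  eq_bot_iff.2 ((DD_le_Raise F G j).trans (Raise_eq_bot F G hF hG hGa hj).le)

/-- `P`-linear maps raising the filtration by `j` are in `DD^(j)`. -/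
lemma mem_DD_of_linear {j : ℕ} {L : M →ₗ[R] N} (hL : ∀ (x : P) (m : M), L (x • m) = x • L m)
    (h : L ∈ Raise R F G j) : L ∈ DD R F G j := by
  rw [mem_DD_iff]
  exact ⟨h, fun x => by rw [comm_eq_zero L hL]; exact zero_mem _⟩

variable {F G K}

lemma Raise_comp {i j : ℕ} {L : N →ₗ[R] Q} {L' : M →ₗ[R] N} (hL : L ∈ Raise R G K i) (hL' : L' ∈ Raise R F G j) :
    L ∘ₗ L' ∈ Raise R F K (i + j) := by
  intro m x hx
  have := hL _ _ (hL' m x hx)
  rwa [add_assoc, add_comm j i] at this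

lemma DDc_comp {c i j : ℕ} {L : N →ₗ[R] Q} {L' : M →ₗ[R] N} (hL : L ∈ DDc R G K c i) (hL' : L' ∈ DDc R F G c j) :
    L ∘ₗ L' ∈ DDc R F K c (i + j) := by
  induction c generalizing i j L L' with
  | zero => exact Raise_comp hL hL'
  | succ c ih =>
    refine ⟨Raise_comp hL.1 hL'.1, fun x => ?_⟩
    rw [comm_comp]
    refine add_mem ?_ ?_
    · have := ih (hL.2 x) (DDc_succ_le F G c j hL')
      rwa [add_right_comm] at this
    · show _ ∈ DDc R F K c (i + (j + 1))
      exact ih (DDc_succ_le G K c i hL) (hL'.2 x)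

/-- (O2) `DD^(i) DD^(j) ≤ DD^(i+j)`. -/
lemma DD_comp {i j : ℕ} {L : N →ₗ[R] Q} {L' : M →ₗ[R] N} (hL : L ∈ DD R G K i) (hL' : L' ∈ DD R F G j) :
    L ∘ₗ L' ∈ DD R F K (i + j) := by
  rw [mem_DD] at *
  exact fun c => DDc_comp (hL c) (hL' c)

variable {Fil : ℕ → Ideal P}

/-- (O2) `Fil^a DD^(j) ≤ DD^(j+a)`. -/
lemma smul_mem_DD (hFG : ∀ a m, Fil a • G m ≤ G (a + m)) {a j : ℕ} {p : P} (hp : p ∈ Fil a) {L : M →ₗ[R] N}
    (hL : L ∈ DD R F G j) : p • L ∈ DD R F G (j + a) := by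
  refine le_DD_of_stable F G (fun b => {L' | ∃ j', b = j' + a ∧ ∃ L ∈ DD R F G j', L' = p • L}) ?_ ?_ (j + a)
    ⟨j, rfl, L, hL, rfl⟩
  · rintro b L' ⟨j', rfl, L, hL, rfl⟩ m x hx
    have h1 := DD_le_Raise F G j' hL m x hx
    have h2 := hFG a (m + j') (Submodule.smul_mem_smul hp h1)
    rw [LinearMap.smul_apply]
    convert h2 using 2
    omega
  · rintro b L' ⟨j', rfl, L, hL, rfl⟩ x
    refine ⟨j' + 1, by omega, comm x L, ((mem_DD_iff F G).1 hL).2 x, comm_smul x p L⟩

variable (F G)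

/-- (O5) it is enough to take commutators with algebra generators. -/
def DDcGen (R : Type*) [CommRing R] [Algebra R P] [Module R M] [IsScalarTower R P M] [Module R N]
    [IsScalarTower R P N] (F : ℕ → Submodule P M) (G : ℕ → Submodule P N) (s : Set P) :
    ℕ → ℕ → Submodule P (M →ₗ[R] N)
  | 0, j => Raise R F G j
  | c + 1, j =>
    { carrier := {L | L ∈ Raise R F G j ∧ ∀ x ∈ s, comm x L ∈ DDcGen R F G s c (j + 1)}
      add_mem' := fun h h' => ⟨add_mem h.1 h'.1, fun x hx => by rw [comm_add]; exact add_mem (h.2 x hx) (h'.2 x hx)⟩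
      zero_mem' := ⟨zero_mem _, fun x _ => by rw [comm_zero]; exact zero_mem _⟩
      smul_mem' := fun p L h => ⟨Submodule.smul_mem _ p h.1, fun x hx => by
        rw [comm_smul]; exact Submodule.smul_mem _ p (h.2 x hx)⟩ }

variable {F G}

lemma Raise_comp_mulx {j : ℕ} {L : M →ₗ[R] N} (hL : L ∈ Raise R F G j) (y : P) :
    L ∘ₗ mulx R M y ∈ Raise R F G j := fun m _ hx => hL m _ (Submodule.smul_mem _ y hx)

lemma DDcGen_comp_mulx {s : Set P} {c j : ℕ} {L : M →ₗ[R] N} (hL : L ∈ DDcGen R F G s c j) (y : P) :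
    L ∘ₗ mulx R M y ∈ DDcGen R F G s c j := by
  induction c generalizing j L with
  | zero => exact Raise_comp_mulx hL y
  | succ c ih =>
    refine ⟨Raise_comp_mulx hL.1 y, fun x hx => ?_⟩
    rw [comm_comp_mulx]
    exact ih (hL.2 x hx)

lemma comm_mem_DDcGen {s : Set P} (hs : Algebra.adjoin R s = ⊤) {c j : ℕ} {L : M →ₗ[R] N}
    (hL : L ∈ DDcGen R F G s (c + 1) j) (x : P) : comm x L ∈ DDcGen R F G s c (j + 1) := by
  have hx : x ∈ Algebra.adjoin R s := by rw [hs]; trivial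
  induction hx using Algebra.adjoin_induction with
  | mem x hx => exact hL.2 x hx
  | algebraMap r => rw [comm_algebraMap]; exact zero_mem _
  | add x y _ _ h h' => rw [comm_add_left]; exact add_mem h h'
  | mul x y _ _ h h' =>
    rw [comm_mul]
    exact add_mem (Submodule.smul_mem _ x h') (DDcGen_comp_mulx h y)

lemma DDcGen_eq {s : Set P} (hs : Algebra.adjoin R s = ⊤) (c j : ℕ) : DDcGen R F G s c j = DDc R F G c j := by
  induction c generalizing j with
  | zero => rfl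
  | succ c ih =>
    ext L
    constructor
    · intro h
      refine ⟨h.1, fun x => ?_⟩
      rw [← ih]
      exact comm_mem_DDcGen hs h x
    · intro h
      refine ⟨h.1, fun x _ => ?_⟩
      rw [ih]
      exact h.2 x

variable (F G)

/-- For a finite filtration finitely many commutators suffice. -/
lemma DDc_eq_of_le {k : ℕ} (hF : F 0 = ⊤) (hG : G (k + 1) = ⊥) (hGa : Antitone G) {c j : ℕ} (hc : k + 1 ≤ c + j) :
    DDc R F G c j = DD R F G j := by
  refine le_antisymm ?_ (DD_le_DDc F G c j)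
  induction c generalizing j with
  | zero =>
    rw [show DDc R F G 0 j = Raise R F G j from rfl, Raise_eq_bot F G hF hG hGa (by omega)]
    exact bot_le
  | succ c ih =>
    intro L hL
    rw [mem_DD_iff]
    exact ⟨hL.1, fun x => ih (by omega) (hL.2 x)⟩

end Filt

section Semilinear

variable {R : Type*} {P P' : Type*} [CommRing R] [CommRing P] [CommRing P'] [Algebra R P] [Algebra R P']
variable {M N M' N' : Type*} [AddCommGroup M] [Module R M] [Module P M] [IsScalarTower R P M]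
  [AddCommGroup N] [Module R N] [Module P N] [IsScalarTower R P N]
  [AddCommGroup M'] [Module R M'] [Module P' M'] [IsScalarTower R P' M']
  [AddCommGroup N'] [Module R N'] [Module P' N'] [IsScalarTower R P' N']
  {F : ℕ → Submodule P M} {G : ℕ → Submodule P N} {F' : ℕ → Submodule P' M'} {G' : ℕ → Submodule P' N'}

/-- Conjugation by semilinear bijections. -/
def conj (φ : M ≃ₗ[R] M') (ψ : N ≃ₗ[R] N') (L : M →ₗ[R] N) : M' →ₗ[R] N' :=
  ψ.toLinearMap ∘ₗ L ∘ₗ φ.symm.toLinearMap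

lemma conj_apply (φ : M ≃ₗ[R] M') (ψ : N ≃ₗ[R] N') (L : M →ₗ[R] N) (m : M') :
    conj φ ψ L m = ψ (L (φ.symm m)) := rfl

lemma comm_conj (α : P ≃ₐ[R] P') (φ : M ≃ₗ[R] M') (ψ : N ≃ₗ[R] N') (hφ : ∀ (x : P) (m : M), φ (x • m) = α x • φ m)
    (hψ : ∀ (x : P) (n : N), ψ (x • n) = α x • ψ n) (L : M →ₗ[R] N) (x : P) :
    comm (α x) (conj φ ψ L) = conj φ ψ (comm x L) := by
  ext m
  have h : φ.symm (α x • m) = x • φ.symm m := by
    apply φ.injective
    rw [hφ, LinearEquiv.apply_symm_apply, LinearEquiv.apply_symm_apply]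
  simp only [comm_apply, conj_apply, map_sub, h, hψ]

/-- (O4) conjugation by filtered semilinear bijections preserves `DD^(j)`. -/
lemma conj_mem_DD (α : P ≃ₐ[R] P') (φ : M ≃ₗ[R] M') (ψ : N ≃ₗ[R] N')
    (hφ : ∀ (x : P) (m : M), φ (x • m) = α x • φ m) (hψ : ∀ (x : P) (n : N), ψ (x • n) = α x • ψ n)
    (hF : ∀ a, ∀ m ∈ F' a, φ.symm m ∈ F a) (hG : ∀ a, ∀ n ∈ G a, ψ n ∈ G' a) {j : ℕ} {L : M →ₗ[R] N}
    (hL : L ∈ DD R F G j) : conj φ ψ L ∈ DD R F' G' j := by
  refine le_DD_of_stable F' G' (fun a => {L' | ∃ L ∈ DD R F G a, L' = conj φ ψ L}) ?_ ?_ j ⟨L, hL, rfl⟩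
  · rintro a L' ⟨L, hL, rfl⟩ m x hx
    exact hG _ _ (DD_le_Raise F G a hL m _ (hF m x hx))
  · rintro a L' ⟨L, hL, rfl⟩ y
    obtain ⟨x, rfl⟩ := α.surjective y
    exact ⟨comm x L, ((mem_DD_iff F G).1 hL).2 x, comm_conj α φ ψ hφ hψ L x⟩

end Semilinear

section Group

variable {R : Type*} {P : Type*} [CommRing R] [CommRing P] [Algebra R P]
variable {M N : Type*} [AddCommGroup M] [Module R M] [Module P M] [IsScalarTower R P M]
  [AddCommGroup N] [Module R N] [Module P N] [IsScalarTower R P N]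
  {F : ℕ → Submodule P M} {G : ℕ → Submodule P N}

lemma id_mem_DD : (LinearMap.id : M →ₗ[R] M) ∈ DD R F F 0 :=
  mem_DD_of_linear F F (fun _ _ => rfl) (fun _ _ hx => hx)

lemma DD_mul {i j : ℕ} {η η' : Module.End R M} (h : η ∈ DD R F F i) (h' : η' ∈ DD R F F j) :
    η * η' ∈ DD R F F (i + j) := DD_comp h h'

lemma DD_pow {η : Module.End R M} (h : η ∈ DD R F F 1) (n : ℕ) : η ^ n ∈ DD R F F n := by
  induction n with
  | zero => exact id_mem_DD
  | succ n ih => rw [pow_succ]; exact DD_mul ih h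

/-- `1 + DD^(j)`, `j ≥ 1`, is stable under inverses. -/
lemma exists_inv {k : ℕ} (hF : F 0 = ⊤) (hFk : F (k + 1) = ⊥) (hFa : Antitone F) {j : ℕ} (hj : 1 ≤ j)
    {η : Module.End R M} (h : η ∈ DD R F F j) :
    ∃ η' ∈ DD R F F j, (1 + η) * (1 + η') = 1 ∧ (1 + η') * (1 + η) = 1 := by
  have h1 : η ∈ DD R F F 1 := DD_anti F F hFa hj h
  have hν : -η ∈ DD R F F 1 := neg_mem h1
  have h0 : (-η) ^ (k + 1) = 0 := by
    have := DD_pow hν (k + 1)
    rwa [DD_eq_bot F F hF hFk hFa le_rfl] at this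
  have e : (1 : Module.End R M) + η = -(-η - 1) := by abel
  refine ⟨∑ i ∈ Finset.range k, (-η) ^ (i + 1), ?_, ?_, ?_⟩
  · refine sum_mem fun i _ => ?_
    rw [pow_succ]
    have := DD_mul (DD_pow hν i) (neg_mem h)
    exact DD_anti F F hFa (by omega) this
  · have := mul_geom_sum (-η) (k + 1)
    rw [h0, Finset.sum_range_succ', pow_zero, zero_sub] at this
    rw [add_comm (1 : Module.End R M) (∑ i ∈ Finset.range k, (-η) ^ (i + 1)), e, neg_mul, this, neg_neg]
  · have := geom_sum_mul (-η) (k + 1)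
    rw [h0, Finset.sum_range_succ', pow_zero, zero_sub] at this
    rw [add_comm (1 : Module.End R M) (∑ i ∈ Finset.range k, (-η) ^ (i + 1)), e, mul_neg, this, neg_neg]

/-- Conjugation by `1 + η`, `η ∈ DD^(a)`, changes `L ∈ DD^(j)` by an element of `DD^(j+a)`. -/
lemma conj_one_add_sub_mem {a j : ℕ} (hGa : Antitone G) {η : Module.End R N} {η' : Module.End R M}
    (h : η ∈ DD R G G a) (h' : η' ∈ DD R F F a) {L : M →ₗ[R] N} (hL : L ∈ DD R F G j) :
    (LinearMap.id + η) ∘ₗ L ∘ₗ (LinearMap.id + η') - L ∈ DD R F G (j + a) := by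
  have e : (LinearMap.id + η) ∘ₗ L ∘ₗ (LinearMap.id + η') - L =
      η ∘ₗ L + L ∘ₗ η' + η ∘ₗ (L ∘ₗ η') := by
    ext m; simp only [LinearMap.sub_apply, LinearMap.comp_apply, LinearMap.add_apply, LinearMap.id_apply, map_add]
    abel
  rw [e]
  refine add_mem (add_mem ?_ (DD_comp hL h')) ?_
  · have := DD_comp h hL
    rwa [add_comm] at this
  · have := DD_comp h (DD_comp hL h')
    exact DD_anti F G hGa (by omega) this

/-- Products in `1 + DD^(j)` are additive modulo `DD^(2j)`. -/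
lemma mul_sub_mem {i j : ℕ} {η η' : Module.End R M} (h : η ∈ DD R F F i) (h' : η' ∈ DD R F F j) :
    (1 + η) * (1 + η') - (1 + (η + η')) ∈ DD R F F (i + j) := by
  have e : (1 + η) * (1 + η') - (1 + (η + η')) = η * η' := by
    simp only [mul_add, add_mul, one_mul, mul_one]
    abel
  rw [e]
  exact DD_mul h h'

/-- Right multiplication by `x` agrees with left multiplication on `DD^(j)/DD^(j+1)`. -/
lemma comm_mem_DD {j : ℕ} {L : M →ₗ[R] N} (hL : L ∈ DD R F G j) (x : P) : comm x L ∈ DD R F G (j + 1) :=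
  ((mem_DD_iff F G).1 hL).2 x

/-- `Fil 1` kills `DD^(j)/DD^(j+1)`. -/
lemma smul_mem_DD_succ {Fil : ℕ → Ideal P} (hFG : ∀ a m, Fil a • G m ≤ G (a + m)) {j : ℕ} {p : P}
    (hp : p ∈ Fil 1) {L : M →ₗ[R] N} (hL : L ∈ DD R F G j) : p • L ∈ DD R F G (j + 1) :=
  smul_mem_DD hFG hp hL

end Group

section ConjSemi

variable {R : Type*} {P P' : Type*} [CommRing R] [CommRing P] [CommRing P'] [Algebra R P] [Algebra R P']
variable {M N M' N' : Type*} [AddCommGroup M] [Module R M] [AddCommGroup N] [Module R N] [Module P N]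
  [IsScalarTower R P N] [AddCommGroup M'] [Module R M'] [AddCommGroup N'] [Module R N'] [Module P' N']
  [IsScalarTower R P' N']

/-- Conjugation is semilinear. -/
lemma conj_smul (α : P ≃ₐ[R] P') (φ : M ≃ₗ[R] M') (ψ : N ≃ₗ[R] N')
    (hψ : ∀ (x : P) (n : N), ψ (x • n) = α x • ψ n) (x : P) (L : M →ₗ[R] N) :
    conj φ ψ (x • L) = α x • conj φ ψ L := by
  ext m
  rw [conj_apply, LinearMap.smul_apply, hψ, LinearMap.smul_apply, conj_apply]

end ConjSemi

section Unip

variable {R : Type*} {P : Type*} [CommRing R] [CommRing P] [Algebra R P] {Fil : ℕ → Ideal P}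
variable {M N : Type*} [AddCommGroup M] [Module R M] [Module P M] [IsScalarTower R P M]
  [AddCommGroup N] [Module R N] [Module P N] [IsScalarTower R P N]
  {F : ℕ → Submodule P M} {G : ℕ → Submodule P N}

lemma comm_semilinear (α : P →ₐ[R] P) (ψ : M →ₗ[R] N) (hψ : ∀ (x : P) (m : M), ψ (x • m) = α x • ψ m) (x : P) :
    comm x ψ = (x - α x) • ψ := by
  ext m
  rw [comm_apply, hψ, LinearMap.smul_apply, sub_smul]

/-- For `ψ` semilinear over `α`, `(α - 1)P ≤ Fil 2`, `ψ` filtered, `p ∈ Fil a`: `p ψ ∈ DD^(a)`. -/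
lemma smul_semilinear_mem_DD (hFil : ∀ a b, Fil a * Fil b ≤ Fil (a + b)) (hFila : Antitone Fil)
    (hFG : ∀ a m, Fil a • G m ≤ G (a + m)) (α : P →ₐ[R] P) (hα : ∀ x, α x - x ∈ Fil 2) (ψ : M →ₗ[R] N)
    (hψ : ∀ (x : P) (m : M), ψ (x • m) = α x • ψ m) (hψF : ψ ∈ Raise R F G 0) {a : ℕ} {p : P} (hp : p ∈ Fil a) :
    p • ψ ∈ DD R F G a := by
  refine le_DD_of_stable F G (fun b => {L' | ∃ p ∈ Fil b, L' = p • ψ}) ?_ ?_ a ⟨p, hp, rfl⟩
  · rintro b L' ⟨p, hp, rfl⟩ m x hx
    have h2 := hFG b m (Submodule.smul_mem_smul hp (hψF m x hx))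
    rw [LinearMap.smul_apply]
    rwa [add_comm b m] at h2
  · rintro b L' ⟨p, hp, rfl⟩ x
    refine ⟨p * (x - α x), ?_, ?_⟩
    · have h1 : x - α x ∈ Fil 2 := by rw [← neg_sub]; exact neg_mem (hα x)
      exact hFila (by omega) (hFil b 2 (Ideal.mul_mem_mul hp h1))
    · rw [comm_smul, comm_semilinear α ψ hψ, smul_smul]

/-- (O3) the difference of two lifts is in `DD^(1)`: `ψ` semilinear over `α` with `(α - 1)P ≤ Fil 2` and `ψ - ι` raising the
filtration by `1`, `ι` `P`-linear. -/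
lemma sub_mem_DD_one (hFil : ∀ a b, Fil a * Fil b ≤ Fil (a + b)) (hFila : Antitone Fil)
    (hFG : ∀ a m, Fil a • G m ≤ G (a + m)) (α : P →ₐ[R] P) (hα : ∀ x, α x - x ∈ Fil 2) (ψ ι : M →ₗ[R] N)
    (hψ : ∀ (x : P) (m : M), ψ (x • m) = α x • ψ m) (hι : ∀ (x : P) (m : M), ι (x • m) = x • ι m)
    (hψF : ψ ∈ Raise R F G 0) (h1 : ψ - ι ∈ Raise R F G 1) : ψ - ι ∈ DD R F G 1 := by
  rw [mem_DD_iff]
  refine ⟨h1, fun x => ?_⟩
  rw [comm_sub, comm_eq_zero ι hι, sub_zero, comm_semilinear α ψ hψ]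
  have h2 : x - α x ∈ Fil 2 := by rw [← neg_sub]; exact neg_mem (hα x)
  exact smul_semilinear_mem_DD hFil hFila hFG α hα ψ hψ hψF h2

/-- A filtered semilinear map is in `DD^(0)` if `(α - 1)P ≤ Fil 2`. -/
lemma semilinear_mem_DD_zero (hFil : ∀ a b, Fil a * Fil b ≤ Fil (a + b)) (hFila : Antitone Fil)
    (hFG : ∀ a m, Fil a • G m ≤ G (a + m)) (h0 : Fil 0 = ⊤) (α : P →ₐ[R] P) (hα : ∀ x, α x - x ∈ Fil 2)
    (ψ : M →ₗ[R] N) (hψ : ∀ (x : P) (m : M), ψ (x • m) = α x • ψ m) (hψF : ψ ∈ Raise R F G 0) :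
    ψ ∈ DD R F G 0 := by
  have := smul_semilinear_mem_DD (F := F) (G := G) hFil hFila hFG α hα ψ hψ hψF (a := 0) (p := 1)
    (by rw [h0]; trivial)
  rwa [one_smul] at this

end Unip

end Groth.Agent.ResProp.EF.K722
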