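import Groth.Agent.ResProp.EF.K722.OpsFin
import Mathlib.RingTheory.IsTensorProduct
/-!
# `R'`-linear operators on the base change and `R`-linear operators into the base change (OPS-BC, step 1)
`R → R'`, `P → P'`, `P'` generated by `P` as an `R'`-module, `μ : M → M'` generating `M'` over `R'`.
-/
set_option autoImplicit false

namespace Groth.Agent.ResProp.EF.K722

section BC

variable {R R' P P' : Type*} [CommRing R] [CommRing R'] [Algebra R R'] [CommRing P] [Algebra R P]
  [CommRing P'] [Algebra R' P'] [Algebra P P']
variable {M N M' N' : Type*}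
  [AddCommGroup M] [Module R M] [Module P M] [IsScalarTower R P M]
  [AddCommGroup M'] [Module R M'] [Module R' M'] [IsScalarTower R R' M'] [Module P' M'] [IsScalarTower R' P' M']
  [AddCommGroup N'] [Module R N'] [Module R' N'] [IsScalarTower R R' N'] [Module P' N'] [IsScalarTower R' P' N']
  [Module P N'] [IsScalarTower R P N'] [IsScalarTower P P' N']

/-- Restriction of an `R'`-linear map to `M`. -/
def res (μ : M →ₗ[R] M') (L : M' →ₗ[R'] N') : M →ₗ[R] N' := (L.restrictScalars R) ∘ₗ μ

omit [Module P M] [IsScalarTower R P M] [Algebra R P] [CommRing P] [CommRing P'] [Algebra R' P'] [Algebra P P']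
  [Module P' M'] [IsScalarTower R' P' M'] [Module P' N'] [IsScalarTower R' P' N']
  [Module P N'] [IsScalarTower R P N'] [IsScalarTower P P' N'] in
lemma res_apply (μ : M →ₗ[R] M') (L : M' →ₗ[R'] N') (m : M) : res μ L m = L (μ m) := rfl

lemma comm_res (μ : M →ₗ[R] M') (hμ : ∀ (x : P) (v : M), μ (x • v) = algebraMap P P' x • μ v) (x : P)
    (L : M' →ₗ[R'] N') : comm x (res μ L) = res μ (comm (algebraMap P P' x) L) := by
  ext m
  rw [comm_apply, res_apply, res_apply, res_apply, comm_apply, hμ, ← algebraMap_smul P' x (L (μ m))]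

lemma comm_smul_left (r : R') (x : P') (L : M' →ₗ[R'] N') : comm (r • x) L = r • comm x L := by
  ext m
  simp only [comm_apply, LinearMap.smul_apply, smul_sub, smul_assoc, map_smul]

lemma DDc_res (μ : M →ₗ[R] M') (hμ : ∀ (x : P) (v : M), μ (x • v) = algebraMap P P' x • μ v)
    (hP : Submodule.span R' (Set.range (algebraMap P P')) = ⊤)
    (F : ℕ → Submodule P M) (F' : ℕ → Submodule P' M') (G' : ℕ → Submodule P' N')
    (hF : ∀ m, (F' m : Set M') = Submodule.span R' (μ '' (F m : Set M))) (c j : ℕ) (L : M' →ₗ[R'] N') :
    L ∈ DDc R' F' G' c j ↔ res μ L ∈ DDc R F (fun m => (G' m).restrictScalars P) c j := by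
  have h0 : ∀ (j : ℕ) (L : M' →ₗ[R'] N'),
      L ∈ Raise R' F' G' j ↔ res μ L ∈ Raise R F (fun m => (G' m).restrictScalars P) j := by
    intro j L
    constructor
    · intro h m v hv
      refine h m _ ?_
      have : μ v ∈ (F' m : Set M') := by
        rw [hF]; exact Submodule.subset_span ⟨v, hv, rfl⟩
      exact this
    · intro h m v hv
      have hv' : v ∈ (F' m : Set M') := hv
      rw [hF] at hv'
      have hv'' : v ∈ Submodule.span R' (μ '' (F m : Set M)) := hv'
      clear hv hv'
      induction hv'' using Submodule.span_induction with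
      | mem v hv =>
        obtain ⟨w, hw, rfl⟩ := hv
        exact h m w hw
      | zero => rw [map_zero]; exact zero_mem _
      | add v w _ _ h h' => rw [map_add]; exact add_mem h h'
      | smul r v _ h =>
        rw [map_smul, ← algebraMap_smul P' r (L v)]
        exact Submodule.smul_mem _ _ h
  induction c generalizing j L with
  | zero => exact h0 j L
  | succ c ih =>
    rw [mem_DDc_succ, mem_DDc_succ, h0]
    refine and_congr_right fun _ => ⟨fun h x => ?_, fun h x => ?_⟩
    · rw [comm_res μ hμ]
      exact (ih _ _).1 (h _)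
    · have hx : x ∈ Submodule.span R' (Set.range (algebraMap P P')) := by rw [hP]; trivial
      induction hx using Submodule.span_induction with
      | mem x hx =>
        obtain ⟨y, rfl⟩ := hx
        refine (ih _ _).2 ?_
        rw [← comm_res μ hμ]
        exact h y
      | zero =>
        have : comm (0 : P') L = 0 := by ext m; simp [comm_apply]
        rw [this]; exact zero_mem _
      | add x y _ _ h h' => rw [comm_add_left]; exact add_mem h h'
      | smul r x _ h =>
        rw [comm_smul_left, ← algebraMap_smul P' r (comm x L)]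
        exact Submodule.smul_mem _ _ h

lemma DD_res (μ : M →ₗ[R] M') (hμ : ∀ (x : P) (v : M), μ (x • v) = algebraMap P P' x • μ v)
    (hP : Submodule.span R' (Set.range (algebraMap P P')) = ⊤)
    (F : ℕ → Submodule P M) (F' : ℕ → Submodule P' M') (G' : ℕ → Submodule P' N')
    (hF : ∀ m, (F' m : Set M') = Submodule.span R' (μ '' (F m : Set M))) (j : ℕ) (L : M' →ₗ[R'] N') :
    L ∈ DD R' F' G' j ↔ res μ L ∈ DD R F (fun m => (G' m).restrictScalars P) j := by
  rw [mem_DD, mem_DD]
  exact forall_congr' fun c => DDc_res μ hμ hP F F' G' hF c j L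

end BC

end Groth.Agent.ResProp.EF.K722
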